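import Mathlib.Algebra.Polynomial.Derivative
import Mathlib.Algebra.Polynomial.Degree.Lemmas
import Mathlib.Algebra.Polynomial.Eval.Degree
import Mathlib.Algebra.Algebra.Bilinear
import Mathlib.Algebra.CharP.Lemmas
import Mathlib.RingTheory.Derivation.Lie
import Mathlib.Data.Nat.Choose.Dvd
import Mathlib.Data.Int.GCD

/-!
# Jacobson's formula for `(D + a) ^ p`

For a derivation `D` of a commutative ring `Q` of characteristic `p` and `a ∈ Q`, the operator
`(D + a) ^ p` of `Q` equals `D ^ p + (D ^ (p-1) a + a ^ p)`.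
-/

set_option autoImplicit false

namespace Groth.Agent.Lefpen.H332.Jacobson

open Polynomial Finset

section NonComm

variable {E : Type*} [Ring E]

lemma choose_pred_cast (p : ℕ) [hp : Fact p.Prime] (h0 : (p : E) = 0) :
    ∀ m, m < p → (((p - 1).choose m : ℕ) : E) = (-1) ^ m := by
  intro m
  induction m with
  | zero => intro _; simp
  | succ m ih =>
    intro hm
    have h1 := ih (by omega)
    have h2 : p.choose (m + 1) = (p - 1).choose m + (p - 1).choose (m + 1) := by
      have : p = (p - 1) + 1 := by have := hp.out.pos; omega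
      conv_lhs => rw [this]
      exact Nat.choose_succ_succ' _ _
    have h3 : p ∣ p.choose (m + 1) := hp.out.dvd_choose_self (by omega) hm
    obtain ⟨c, hc⟩ := h3
    have h4 : ((p.choose (m + 1) : ℕ) : E) = 0 := by rw [hc]; push_cast; rw [h0, zero_mul]
    rw [h2] at h4
    push_cast at h4
    rw [h1] at h4
    rw [pow_succ, mul_neg, mul_one]
    exact (neg_eq_of_add_eq_zero_right h4).symm

lemma neg_one_pow_pred (p : ℕ) [hp : Fact p.Prime] (h0 : (p : E) = 0) :
    (-1 : E) ^ (p - 1) = 1 := by
  rw [← choose_pred_cast p h0 (p - 1) (by have := hp.out.pos; omega)]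
  simp

/-- `(L - M) ^ (p - 1) = ∑ L ^ i M ^ (p-1-i)` in characteristic `p`. -/
lemma sub_pow_pred (p : ℕ) [hp : Fact p.Prime] (h0 : (p : E) = 0) {L M : E} (h : Commute L M) :
    (L - M) ^ (p - 1) = ∑ i ∈ range p, L ^ i * M ^ (p - 1 - i) := by
  have hpp : p - 1 + 1 = p := by have := hp.out.pos; omega
  rw [sub_eq_add_neg, (h.neg_right).add_pow, hpp]
  refine Finset.sum_congr rfl fun m hm => ?_
  have hm : m < p := Finset.mem_range.mp hm
  rw [choose_pred_cast p h0 m hm, neg_pow M, mul_assoc, mul_assoc]
  congr 1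
  have hc : Commute (M ^ (p - 1 - m)) ((-1 : E) ^ m) := by
    apply Commute.pow_right
    exact (Commute.neg_one_right _)
  rw [hc.eq, ← mul_assoc, ← pow_add, show p - 1 - m + m = p - 1 by omega, neg_one_pow_pred p h0,
    one_mul]

/-- The operator `ad A = [A, -]`. -/
def ad (A : E) : Module.End ℤ E := LinearMap.mulLeft ℤ A - LinearMap.mulRight ℤ A

lemma ad_apply (A B : E) : ad A B = A * B - B * A := rfl

lemma ad_pow_pred (p : ℕ) [hp : Fact p.Prime] (h0 : (p : E) = 0) (A B : E) :
    (ad A ^ (p - 1)) B = ∑ i ∈ range p, A ^ i * B * A ^ (p - 1 - i) := by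
  have h1 : ((p : ℕ) : Module.End ℤ E) = 0 := by
    ext x
    rw [Module.End.natCast_apply, nsmul_eq_mul, h0, zero_mul]
    rfl
  rw [ad, sub_pow_pred p h1 (LinearMap.commute_mulLeft_right (R := ℤ) A A)]
  rw [LinearMap.sum_apply]
  refine Finset.sum_congr rfl fun i _ => ?_
  rw [LinearMap.pow_mulLeft, LinearMap.pow_mulRight]
  simp [mul_assoc]

lemma derivative_pow_noncomm (A : E[X]) (n : ℕ) :
    derivative (A ^ n) = ∑ i ∈ range n, A ^ i * derivative A * A ^ (n - 1 - i) := by
  induction n with
  | zero => simp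
  | succ n ih =>
    rw [pow_succ, derivative_mul, ih, Finset.sum_range_succ, Finset.sum_mul]
    congr 1
    · refine Finset.sum_congr rfl fun i hi => ?_
      have hi : i < n := Finset.mem_range.mp hi
      rw [mul_assoc, ← pow_succ, show n - 1 - i + 1 = n + 1 - 1 - i by omega]
    · simp

/-- Jacobson's formula, when `a` commutes with the iterated commutators `ad x ^ k (a)`. -/
theorem add_pow_char (p : ℕ) [hp : Fact p.Prime] (h0 : (p : E) = 0) (x a : E)
    (hc : ∀ k, Commute a ((ad x ^ k) a)) :
    (x + a) ^ p = x ^ p + (ad x ^ (p - 1)) a + a ^ p := by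
  classical
  have hppos : 0 < p := hp.out.pos
  have hp2 : 2 ≤ p := hp.out.two_le
  set A : E[X] := C x + C a * X with hA
  have hXc : ∀ f : E[X], X * f = f * X := fun f => (Polynomial.commute_X f).eq
  have had : ∀ k, (ad A ^ k) (C a) = C ((ad x ^ k) a) := by
    intro k
    induction k with
    | zero => simp
    | succ k ih =>
      rw [pow_succ', Module.End.mul_apply, ih, pow_succ', Module.End.mul_apply, ad_apply, ad_apply,
        hA, add_mul, mul_add, mul_assoc, hXc, ← mul_assoc, ← mul_assoc, ← C_mul, ← C_mul, ← C_mul,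
        ← C_mul, (hc k).eq, add_sub_add_right_eq_sub, ← C_sub]
  have h0X : ((p : ℕ) : E[X]) = 0 := by
    rw [← C_eq_natCast]
    rw [h0, C_0]
  have hderiv : derivative (A ^ p) = C ((ad x ^ (p - 1)) a) := by
    rw [derivative_pow_noncomm]
    have : derivative A = C a := by simp [hA]
    rw [this, ← ad_pow_pred p h0X, had]
  have hdegA : A.natDegree ≤ 1 := by
    rw [hA]
    refine (natDegree_add_le _ _).trans ?_
    refine max_le (by simp) ?_
    exact (natDegree_C_mul_le _ _).trans natDegree_X_le
  have hdeg : (A ^ p).natDegree ≤ p := by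
    refine natDegree_pow_le.trans ?_
    calc p * A.natDegree ≤ p * 1 := Nat.mul_le_mul_left _ hdegA
      _ = p := mul_one p
  have hcoeffp : (A ^ p).coeff p = a ^ p := by
    have := coeff_pow_of_natDegree_le (n := 1) (m := p) hdegA
    rw [mul_one] at this
    rw [this]
    simp [hA]
  have hcoeff0 : (A ^ p).coeff 0 = x ^ p := by
    have : constantCoeff (A ^ p) = (constantCoeff A) ^ p := map_pow _ _ _
    simpa [hA] using this
  have hcoeff : ∀ k, 0 < k → k < p →
      (A ^ p).coeff k = if k = 1 then (ad x ^ (p - 1)) a else 0 := by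
    intro k hk hkp
    have h1 : (derivative (A ^ p)).coeff (k - 1) = (C ((ad x ^ (p - 1)) a)).coeff (k - 1) := by
      rw [hderiv]
    rw [coeff_derivative, coeff_C, show k - 1 + 1 = k by omega] at h1
    by_cases hk1 : k = 1
    · subst hk1
      simpa using h1
    · rw [if_neg (by omega), show ((k - 1 : ℕ) : E) + 1 = ((k : ℕ) : E) by
        rw [← Nat.cast_succ]; congr 1; omega] at h1
      rw [if_neg hk1]
      -- `k` is invertible modulo `p`
      have hcop : Nat.Coprime k p := (Nat.coprime_of_lt_prime (by omega) hkp hp.out).symm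
      have hbez : (Nat.gcdA k p : ℤ) * k + Nat.gcdB k p * p = 1 := by
        have := Nat.gcd_eq_gcd_ab k p
        rw [hcop] at this
        push_cast at this
        linarith
      have hcast : ((Nat.gcdA k p : ℤ) : E) * (k : E) = 1 := by
        have := congrArg (fun z : ℤ => (z : E)) hbez
        push_cast at this
        rw [h0, mul_zero, add_zero] at this
        exact this
      calc (A ^ p).coeff k = (A ^ p).coeff k * (((Nat.gcdA k p : ℤ) : E) * (k : E)) := by
            rw [hcast, mul_one]
        _ = (A ^ p).coeff k * ((k : E) * ((Nat.gcdA k p : ℤ) : E)) := by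
            rw [(Int.cast_commute (Nat.gcdA k p) (k : E)).eq]
        _ = 0 := by rw [← mul_assoc, h1, zero_mul]
  let ev : E[X] →+* E := eval₂RingHom' (RingHom.id E) 1 (fun _ => Commute.one_right _)
  have hev : ∀ f : E[X], ev f = f.sum fun _ c => c := by
    intro f
    simp [ev, eval₂RingHom', eval₂_eq_sum]
  have hevA : ev A = x + a := by
    simp [ev, eval₂RingHom', hA]
  have hevp : ev (A ^ p) = ∑ k ∈ range (p + 1), (A ^ p).coeff k := by
    rw [hev]
    exact Polynomial.sum_over_range' _ (by simp) _ (by omega)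
  rw [← hevA, ← map_pow, hevp, Finset.sum_range_succ, hcoeffp]
  congr 1
  have hsplit : range p = insert 0 (insert 1 ((range p).filter (fun k => 1 < k))) := by
    ext k
    simp only [mem_range, mem_insert, mem_filter]
    omega
  rw [hsplit, Finset.sum_insert (by simp), Finset.sum_insert (by simp), hcoeff0,
    hcoeff 1 one_pos (by omega), if_pos rfl, Finset.sum_eq_zero, add_zero]
  intro k hk
  simp only [mem_filter, mem_range] at hk
  rw [hcoeff k (by omega) hk.1, if_neg (by omega)]

end NonComm

section Comm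

variable {Q : Type*} [CommRing Q]

/-- A derivation as an element of `Module.End ℤ Q`. -/
def op (D : Derivation ℤ Q Q) : Module.End ℤ Q := D.toLinearMap

/-- Multiplication operator. -/
def mu (a : Q) : Module.End ℤ Q := LinearMap.mulLeft ℤ a

@[simp] lemma op_apply (D : Derivation ℤ Q Q) (x : Q) : op D x = D x := rfl
@[simp] lemma mu_apply (a x : Q) : mu a x = a * x := rfl

lemma mu_commute (a b : Q) : Commute (mu a) (mu b) := by
  ext x
  simp [mul_left_comm]

lemma ad_op_mu (D : Derivation ℤ Q Q) (a : Q) : ad (op D) (mu a) = mu (D a) := by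
  ext x
  simp [ad_apply, mul_comm]

lemma op_pow_apply (D : Derivation ℤ Q Q) (n : ℕ) (x : Q) : (op D ^ n) x = D^[n] x := by
  rw [Module.End.pow_apply]; rfl

lemma ad_op_pow_mu (D : Derivation ℤ Q Q) (a : Q) (k : ℕ) :
    (ad (op D) ^ k) (mu a) = mu (D^[k] a) := by
  induction k with
  | zero => simp
  | succ k ih => rw [pow_succ', Module.End.mul_apply, ih, ad_op_mu, Function.iterate_succ_apply']

lemma mu_pow (a : Q) (n : ℕ) : mu a ^ n = mu (a ^ n) := LinearMap.pow_mulLeft ..

/-- **Jacobson's formula**: `(D + a) ^ p = D ^ p + (D ^ (p-1) a + a ^ p)`. -/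
theorem op_add_mu_pow (p : ℕ) [hp : Fact p.Prime] (h0 : (p : Q) = 0) (D : Derivation ℤ Q Q)
    (a : Q) :
    (op D + mu a) ^ p = op D ^ p + mu (D^[p - 1] a + a ^ p) := by
  have h1 : ((p : ℕ) : Module.End ℤ Q) = 0 := by
    ext x
    rw [Module.End.natCast_apply, nsmul_eq_mul, h0, zero_mul]
    rfl
  rw [add_pow_char p h1, ad_op_pow_mu, mu_pow]
  · rw [add_assoc]
    congr 1
    ext x
    simp [add_mul]
  · intro k
    rw [ad_op_pow_mu]
    exact mu_commute _ _

end Comm

end Groth.Agent.Lefpen.H332.Jacobson
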