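import Groth.Agent.Lefpen.H725.Frame
import Groth.Agent.Lefpen.H332.Jacobson
import Groth.Agent.Ega41.PBasisField
import Mathlib.Algebra.Ring.GeomSum
import Mathlib.Algebra.CharP.Lemmas
import Mathlib.RingTheory.Kaehler.Basic
import Mathlib.LinearAlgebra.Dual.Lemmas

/-!
# Cartier theory for a field with a frame

`F : Frame Q ι` is a finite `p`-basis of the field `Q` of characteristic `p` together with the dual
derivations. We prove the Cartier decomposition of closed 1-forms, its compatibility with a change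
of frame, and the fact that a closed 1-form fixed by the Cartier operator is logarithmic.
-/

set_option autoImplicit false

namespace Groth.Agent.Lefpen.H332.Cartier

open Groth.Agent.Lefpen.H725.Frame Groth.Agent.Lefpen.H332.Jacobson Finset

section OneDerivation

variable {Q : Type*} [Field Q]

/-- `ad (A ^ p) = (ad A) ^ p` in characteristic `p`. -/
lemma ad_pow_char {E : Type*} [Ring E] (p : ℕ) [hp : Fact p.Prime] (h0 : (p : E) = 0) (A : E) :
    ad A ^ p = ad (A ^ p) := by
  have h1 : ((p : ℕ) : Module.End ℤ E) = 0 := by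
    ext x
    rw [Module.End.natCast_apply, nsmul_eq_mul, h0, zero_mul]
    rfl
  have hcomm := LinearMap.commute_mulLeft_right (R := ℤ) A A
  have hpp : p = (p - 1) + 1 := by have := hp.out.pos; omega
  conv_lhs => rw [hpp]
  rw [pow_succ', ad, sub_pow_pred p h1 hcomm, hcomm.mul_geom_sum₂, LinearMap.pow_mulLeft,
    LinearMap.pow_mulRight]
  rfl

lemma natCast_end (p : ℕ) [CharP Q p] : ((p : ℕ) : Module.End ℤ Q) = 0 := by
  ext x
  rw [Module.End.natCast_apply, nsmul_eq_mul, CharP.cast_eq_zero, zero_mul]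
  rfl

/-- The `p`-th power of a derivation is a derivation. -/
def powDer (p : ℕ) [Fact p.Prime] [CharP Q p] (D : Derivation ℤ Q Q) : Derivation ℤ Q Q :=
  Derivation.mk' (op D ^ p) (fun a b => by
    have h1 : ad (op D ^ p) (mu a) = mu (D^[p] a) := by
      rw [← ad_pow_char p (natCast_end p), ad_op_pow_mu]
    have h2 := congrArg (fun f : Module.End ℤ Q => f b) h1
    simp only [ad_apply, LinearMap.sub_apply, Module.End.mul_apply, mu_apply] at h2
    rw [sub_eq_iff_eq_add] at h2
    rw [h2, op_pow_apply D p a, smul_eq_mul, smul_eq_mul]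
    ring)

lemma powDer_apply (p : ℕ) [Fact p.Prime] [CharP Q p] (D : Derivation ℤ Q Q) (x : Q) :
    powDer p D x = D^[p] x := by
  rw [← op_pow_apply]; rfl

lemma der_pow_p (p : ℕ) [CharP Q p] (D : Derivation ℤ Q Q) (x : Q) : D (x ^ p) = 0 := by
  rw [D.leibniz_pow, nsmul_eq_mul, CharP.cast_eq_zero, zero_mul]

lemma iterate_const_mul (D : Derivation ℤ Q Q) (c : Q) (hc : D c = 0) (n : ℕ) (x : Q) :
    D^[n] (c * x) = c * D^[n] x := by
  induction n with
  | zero => rfl
  | succ n ih =>
    rw [Function.iterate_succ_apply', ih, Function.iterate_succ_apply', D.leibniz, hc, smul_zero,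
      add_zero, smul_eq_mul]

lemma iterate_add (D : Derivation ℤ Q Q) (n : ℕ) (x y : Q) :
    D^[n] (x + y) = D^[n] x + D^[n] y := by
  rw [← op_pow_apply, map_add, op_pow_apply, op_pow_apply]

lemma iterate_sub (D : Derivation ℤ Q Q) (n : ℕ) (x y : Q) :
    D^[n] (x - y) = D^[n] x - D^[n] y := by
  rw [← op_pow_apply, map_sub, op_pow_apply, op_pow_apply]

lemma iterate_neg (D : Derivation ℤ Q Q) (n : ℕ) (x : Q) :
    D^[n] (-x) = - D^[n] x := by
  rw [← op_pow_apply, map_neg, op_pow_apply]

lemma iterate_sum (D : Derivation ℤ Q Q) (n : ℕ) {κ : Type*} (s : Finset κ) (f : κ → Q) :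
    D^[n] (∑ i ∈ s, f i) = ∑ i ∈ s, D^[n] (f i) := by
  simp only [← op_pow_apply, map_sum]

lemma iterate_zero (D : Derivation ℤ Q Q) (n : ℕ) : D^[n] (0 : Q) = 0 := by
  rw [← op_pow_apply, map_zero]

/-- logarithmic derivative: `(D + Df/f)^n 1 = D^n f / f` -/
lemma op_add_mu_pow_one (D : Derivation ℤ Q Q) (f : Q) (hf : f ≠ 0) (n : ℕ) :
    ((op D + mu (D f / f)) ^ n) (1 : Q) = D^[n] f / f := by
  induction n with
  | zero => simp [hf]
  | succ n ih =>
    rw [pow_succ', Module.End.mul_apply, ih, Function.iterate_succ_apply']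
    simp only [LinearMap.add_apply, op_apply, mu_apply]
    rw [D.leibniz_div]
    simp only [smul_eq_mul]
    field_simp
    ring

/-- `D ^ (p - 1) (Df / f) = D ^ p f / f - (Df / f) ^ p`. -/
lemma iterate_dlog (p : ℕ) [hp : Fact p.Prime] [CharP Q p] (D : Derivation ℤ Q Q) (f : Q)
    (hf : f ≠ 0) : D^[p - 1] (D f / f) = D^[p] f / f - (D f / f) ^ p := by
  have h := congrArg (fun T : Module.End ℤ Q => T 1)
    (op_add_mu_pow p (CharP.cast_eq_zero Q p) D (D f / f))
  simp only [LinearMap.add_apply, mu_apply, mul_one] at h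
  rw [op_add_mu_pow_one D f hf, op_pow_apply] at h
  have h1 : D^[p] (1 : Q) = 0 := by
    have : p = (p - 1) + 1 := by have := hp.out.pos; omega
    rw [this, Function.iterate_succ_apply, D.map_one_eq_zero, iterate_zero]
  rw [h1, zero_add] at h
  rw [h]
  ring

/-- Katz's formula. -/
lemma katz (p : ℕ) [hp : Fact p.Prime] [CharP Q p] (D : Derivation ℤ Q Q) (x : Q) :
    D^[p - 1] (x ^ (p - 1) * D x) = x ^ (p - 1) * D^[p] x - (D x) ^ p := by
  have hp2 := hp.out.two_le
  by_cases hx : x = 0
  · subst hx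
    rw [D.map_zero, mul_zero, iterate_zero, iterate_zero, mul_zero, zero_pow hp.out.ne_zero,
      sub_zero]
  · have h1 : x ^ (p - 1) * D x = x ^ p * (D x / x) := by
      have : x ^ p = x ^ (p - 1) * x := by rw [← pow_succ]; congr 1; omega
      rw [this]
      field_simp
    rw [h1, iterate_const_mul D _ (der_pow_p p D x), iterate_dlog p D x hx]
    have : x ^ p = x ^ (p - 1) * x := by rw [← pow_succ]; congr 1; omega
    rw [mul_sub, div_pow, mul_div_cancel₀ _ (pow_ne_zero _ hx), this, mul_assoc,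
      mul_div_cancel₀ _ hx]

/-- The coefficients `(-1)^m / m!`. -/
def ec (Q : Type*) [Field Q] : ℕ → Q
  | 0 => 1
  | (m + 1) => - ec Q m / ((m : Q) + 1)

/-- The primitive by iterated integration by parts. -/
def prim (D : Derivation ℤ Q Q) (z a : Q) (m : ℕ) : Q :=
  ∑ k ∈ range m, - ec Q (k + 1) * z ^ (k + 1) * D^[k] a

lemma cast_ne (p : ℕ) [Fact p.Prime] [CharP Q p] (m : ℕ) (hm : m + 1 < p) :
    (m : Q) + 1 ≠ 0 := by
  rw [← Nat.cast_succ, Ne, CharP.cast_eq_zero_iff Q p]
  intro h
  exact absurd (Nat.le_of_dvd (Nat.succ_pos m) h) (by omega)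

lemma der_ec (p : ℕ) [Fact p.Prime] [CharP Q p] (D : Derivation ℤ Q Q) (m : ℕ) (hm : m < p) :
    D (ec Q m) = 0 := by
  induction m with
  | zero => exact D.map_one_eq_zero
  | succ m ih =>
    have h1 : D ((m : Q) + 1) = 0 := by rw [← Nat.cast_succ]; exact D.map_natCast _
    rw [ec, D.leibniz_div_const _ _ h1, D.map_neg, ih (by omega), neg_zero, smul_zero]

lemma D_prim (p : ℕ) [hp : Fact p.Prime] [CharP Q p] (D : Derivation ℤ Q Q) (z a : Q)
    (hz : D z = 1) (m : ℕ) (hm : m < p) :
    D (prim D z a m) = a - ec Q m * z ^ m * D^[m] a := by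
  induction m with
  | zero => simp [prim, ec]
  | succ m ih =>
    have h1 : prim D z a (m + 1) = prim D z a m + - ec Q (m + 1) * z ^ (m + 1) * D^[m] a :=
      Finset.sum_range_succ _ _
    have h2 : D (- ec Q (m + 1)) = 0 := by rw [D.map_neg, der_ec p D _ hm, neg_zero]
    have h3 : ec Q (m + 1) * ((m : Q) + 1) = - ec Q m := by
      rw [ec, div_mul_cancel₀ _ (cast_ne p m hm)]
    rw [h1, D.map_add, ih (by omega), D.leibniz (- ec Q (m + 1) * z ^ (m + 1)) (D^[m] a),
      D.leibniz (- ec Q (m + 1)) (z ^ (m + 1)), h2, D.leibniz_pow, hz, smul_zero, add_zero,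
      ← Function.iterate_succ_apply' D m a]
    simp only [smul_eq_mul, nsmul_eq_mul, Nat.add_sub_cancel, mul_one, Nat.cast_add, Nat.cast_one]
    linear_combination z ^ m * (D^[m] a) * (-h3)

/-- If `z` and `a` are killed by `E`, and `E` commutes with `D`, then the primitive is killed by `E`. -/
lemma E_prim (p : ℕ) [hp : Fact p.Prime] [CharP Q p] (D E : Derivation ℤ Q Q) (z a : Q)
    (hz : E z = 0) (ha : E a = 0) (hc : ∀ x, E (D x) = D (E x)) (m : ℕ) (hm : m < p) :
    E (prim D z a m) = 0 := by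
  have h0 : ∀ k, E (D^[k] a) = 0 := by
    intro k
    induction k with
    | zero => exact ha
    | succ k ih => rw [Function.iterate_succ_apply', hc, ih, D.map_zero]
  unfold prim
  rw [map_sum]
  refine Finset.sum_eq_zero fun k hk => ?_
  have hk : k < m := Finset.mem_range.mp hk
  have h2 : E (- ec Q (k + 1)) = 0 := by rw [E.map_neg, der_ec p E _ (by omega), neg_zero]
  rw [E.leibniz, E.leibniz, h2, E.leibniz_pow, hz, h0]
  simp

end OneDerivation

section Frame

variable {Q : Type*} [Field Q] {ι : Type*} [DecidableEq ι]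

lemma sum_smul_apply {κ : Type*} (s : Finset κ) (c : κ → Q) (D : κ → Derivation ℤ Q Q) (x : Q) :
    (∑ i ∈ s, c i • D i) x = ∑ i ∈ s, c i * D i x := by
  classical
  induction s using Finset.induction_on with
  | empty => simp
  | insert i s hi ih => rw [Finset.sum_insert hi, Finset.sum_insert hi, Derivation.add_apply, ih,
      Derivation.smul_apply, smul_eq_mul]

/-- Every derivation is a combination of the frame derivations. -/
theorem expand [Fintype ι] (F : Frame Q ι) (E : Derivation ℤ Q Q) :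
    E = ∑ i, E (F.z i) • F.D i := by
  have h := F.sep (E - ∑ i, E (F.z i) • F.D i) (fun j => by
    rw [Derivation.sub_apply, sum_smul_apply]
    simp [F.dual])
  exact sub_eq_zero.mp h

/-- The frame derivations commute. -/
theorem comm (F : Frame Q ι) (i j : ι) (x : Q) : F.D i (F.D j x) = F.D j (F.D i x) := by
  have h := F.sep ⁅F.D i, F.D j⁆ (fun k => by
    rw [Derivation.commutator_apply, F.dual, F.dual]
    split_ifs <;> simp)
  have h2 := congrArg (fun E : Derivation ℤ Q Q => E x) h
  simp only [Derivation.commutator_apply, Derivation.zero_apply] at h2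
  exact sub_eq_zero.mp h2

/-- The frame derivations have `p`-th power zero. -/
theorem iter_p (F : Frame Q ι) (p : ℕ) [hp : Fact p.Prime] [CharP Q p] (i : ι) (x : Q) :
    (F.D i)^[p] x = 0 := by
  have h := F.sep (powDer p (F.D i)) (fun k => by
    rw [powDer_apply]
    have hpp : p = (p - 1) + 1 := by have := hp.out.pos; omega
    have hpp' : p - 1 = (p - 2) + 1 := by have := hp.out.two_le; omega
    rw [hpp, Function.iterate_succ_apply, F.dual, hpp', Function.iterate_succ_apply]
    split_ifs
    · rw [Derivation.map_one_eq_zero, iterate_zero]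
    · rw [Derivation.map_zero, iterate_zero])
  rw [← powDer_apply, h, Derivation.zero_apply]

lemma iter_pred_D (F : Frame Q ι) (p : ℕ) [hp : Fact p.Prime] [CharP Q p] (i : ι) (x : Q) :
    (F.D i)^[p - 1] (F.D i x) = 0 := by
  have hpp : (p - 1).succ = p := by have := hp.out.pos; omega
  rw [← Function.iterate_succ_apply, hpp, iter_p]

/-- The common constants are `p`-th powers. -/
theorem const [Fintype ι] (F : Frame Q ι) (p : ℕ) [hp : Fact p.Prime] [CharP Q p] (x : Q)
    (hx : ∀ i, F.D i x = 0) : ∃ y, y ^ p = x := by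
  by_contra hne
  let k : Subfield Q := (frobenius Q p).fieldRange
  have hk : ∀ y : Q, y ∈ (algebraMap k Q).range ↔ ∃ w, w ^ p = y := by
    intro y
    constructor
    · rintro ⟨⟨a, w, hw⟩, rfl⟩
      exact ⟨w, hw⟩
    · rintro ⟨w, hw⟩
      exact ⟨⟨y, w, hw⟩, rfl⟩
  have hd := Groth.Agent.Ega41.PBasisField.D_ne_zero p (k := k) (K := Q)
    (fun y => (hk _).mpr ⟨y, rfl⟩) x (fun h => hne ((hk x).mp h))
  -- a functional not vanishing on `dx`
  obtain ⟨φ, hφ⟩ : ∃ φ : Module.Dual Q (Ω[Q⁄k]), φ (KaehlerDifferential.D k Q x) ≠ 0 := by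
    by_contra h
    push Not at h
    exact hd ((Module.forall_dual_apply_eq_zero_iff Q _).mp h)
  let E : Derivation ℤ Q Q := (φ.compDer (KaehlerDifferential.D k Q)).restrictScalars ℤ
  have hE : E x = φ (KaehlerDifferential.D k Q x) := rfl
  apply hφ
  rw [← hE, expand F E, sum_smul_apply]
  exact Finset.sum_eq_zero fun i _ => by rw [hx, mul_zero]

lemma iterate_comm (F : Frame Q ι) (i j : ι) (n : ℕ) (x : Q) :
    F.D j ((F.D i)^[n] x) = (F.D i)^[n] (F.D j x) := by
  induction n with
  | zero => rfl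
  | succ n ih => rw [Function.iterate_succ_apply', comm F j i, ih, Function.iterate_succ_apply']

/-- A closed form with `D_i ^ (p-1) a_i = 0` is exact on each finite set of indices. -/
lemma exists_primitive (F : Frame Q ι) (p : ℕ) [hp : Fact p.Prime] [CharP Q p] (a : ι → Q)
    (h : ∀ i j, F.D i (a j) = F.D j (a i)) (h0 : ∀ i, (F.D i)^[p - 1] (a i) = 0)
    (s : Finset ι) : ∃ g : Q, ∀ i ∈ s, F.D i g = a i := by
  have hp1 : p - 1 < p := by have := hp.out.pos; omega
  induction s using Finset.induction_on with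
  | empty => exact ⟨0, by simp⟩
  | insert j s hj ih =>
    obtain ⟨g, hg⟩ := ih
    have hz : F.D j (F.z j) = 1 := by rw [F.dual, if_pos rfl]
    have hb : (F.D j)^[p - 1] (a j - F.D j g) = 0 := by
      rw [iterate_sub, h0, iter_pred_D, sub_zero]
    refine ⟨g + prim (F.D j) (F.z j) (a j - F.D j g) (p - 1), fun i hi => ?_⟩
    rw [Finset.mem_insert] at hi
    rcases eq_or_ne i j with rfl | hij
    · rw [Derivation.map_add, D_prim p _ _ _ hz _ hp1, hb, mul_zero, sub_zero]
      ring
    · have his : i ∈ s := hi.resolve_left hij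
      rw [Derivation.map_add, hg i his,
        E_prim p (F.D j) (F.D i) _ _ (by rw [F.dual, if_neg hij])
          (by rw [Derivation.map_sub, h, comm F i j, hg i his, sub_self])
          (fun x => comm F i j x) _ hp1, add_zero]

/-- The coefficients are computed by iterated derivatives. -/
theorem coeff (F : Frame Q ι) (p : ℕ) [hp : Fact p.Prime] [CharP Q p] (b g : Q) (i : ι) :
    (F.D i)^[p - 1] (b ^ p * F.z i ^ (p - 1) + F.D i g) = - b ^ p := by
  have hz : F.D i (F.z i) = 1 := by rw [F.dual, if_pos rfl]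
  have hk := katz p (F.D i) (F.z i)
  rw [hz, mul_one, iter_p F p i, mul_zero, one_pow, zero_sub] at hk
  rw [iterate_add, iterate_const_mul _ _ (der_pow_p p _ b), hk, iter_pred_D]
  ring

/-- Cartier decomposition of a closed 1-form. -/
theorem decomp [Fintype ι] (F : Frame Q ι) (p : ℕ) [hp : Fact p.Prime] [CharP Q p] (a : ι → Q)
    (h : ∀ i j, F.D i (a j) = F.D j (a i)) :
    ∃ (b : ι → Q) (g : Q), ∀ i, a i = b i ^ p * F.z i ^ (p - 1) + F.D i g := by
  have hb : ∀ i, ∃ y, y ^ p = - (F.D i)^[p - 1] (a i) := by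
    intro i
    refine const F p _ fun j => ?_
    rw [Derivation.map_neg, iterate_comm, h, iter_pred_D, neg_zero]
  choose b hb using hb
  obtain ⟨g, hg⟩ := exists_primitive F p (fun i => a i - b i ^ p * F.z i ^ (p - 1))
    (fun i j => by
      rcases eq_or_ne i j with rfl | hij
      · rfl
      · have key : ∀ i j, i ≠ j → F.D i (b j ^ p * F.z j ^ (p - 1)) = 0 := by
          intro i j hij
          rw [Derivation.leibniz, der_pow_p p, smul_zero, add_zero, Derivation.leibniz_pow, F.dual,
            if_neg hij, smul_zero, smul_zero, smul_zero]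
        rw [Derivation.map_sub, Derivation.map_sub, key i j hij, key j i hij.symm, h i j])
    (fun i => by
      have := coeff F p (b i) 0 i
      rw [Derivation.map_zero, add_zero] at this
      rw [iterate_sub, this, hb]
      ring) Finset.univ
  exact ⟨b, g, fun i => by rw [hg i (Finset.mem_univ i)]; ring⟩

/-- Independence of the frame. -/
theorem change [Fintype ι] {ι' : Type*} [DecidableEq ι'] (F : Frame Q ι)
    (F' : Frame Q ι') (p : ℕ) [hp : Fact p.Prime] [CharP Q p]
    (η : Derivation ℤ Q Q →ₗ[Q] Q)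
    (b : ι → Q) (g : Q) (hb : ∀ i, η (F.D i) = b i ^ p * F.z i ^ (p - 1) + F.D i g)
    (b' : ι' → Q) (g' : Q) (hb' : ∀ i, η (F'.D i) = b' i ^ p * F'.z i ^ (p - 1) + F'.D i g')
    (j : ι') : b' j = ∑ i, F'.D j (F.z i) * b i := by
  have h1 : η (F'.D j) = ∑ i, F'.D j (F.z i) * η (F.D i) := by
    conv_lhs => rw [expand F (F'.D j), map_sum]
    simp
  have h2 : F'.D j g = ∑ i, F'.D j (F.z i) * F.D i g := by
    conv_lhs => rw [expand F (F'.D j), sum_smul_apply]
  have h3 : b' j ^ p * F'.z j ^ (p - 1) + F'.D j g' =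
      (∑ i, b i ^ p * (F.z i ^ (p - 1) * F'.D j (F.z i))) + F'.D j g := by
    rw [← hb', h1, h2, ← Finset.sum_add_distrib]
    refine Finset.sum_congr rfl fun i _ => ?_
    rw [hb]
    ring
  have h4 := congrArg ((F'.D j)^[p - 1]) h3
  rw [coeff, iterate_add, iterate_sum, iter_pred_D, add_zero] at h4
  have h5 : ∀ i, (F'.D j)^[p - 1] (b i ^ p * (F.z i ^ (p - 1) * F'.D j (F.z i))) =
      - (F'.D j (F.z i) * b i) ^ p := by
    intro i
    rw [iterate_const_mul _ _ (der_pow_p p _ _), katz, iter_p]
    ring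
  rw [Finset.sum_congr rfl (fun i _ => h5 i), Finset.sum_neg_distrib, neg_inj, ← sum_pow_char] at h4
  have h6 : (b' j - ∑ i, F'.D j (F.z i) * b i) ^ p = 0 := by
    rw [sub_pow_char, h4, sub_self]
  exact sub_eq_zero.mp (pow_eq_zero_iff hp.out.ne_zero |>.mp h6)

/-- The Cartier operator fixes `dlog`. -/
theorem dlog_coeff (F : Frame Q ι) (p : ℕ) [hp : Fact p.Prime] [CharP Q p] (f : Q) (hf : f ≠ 0)
    (i : ι) : (F.D i)^[p - 1] (F.D i f / f) = - (F.D i f / f) ^ p := by
  rw [iterate_dlog p _ f hf, iter_p]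
  ring

/-- Commuting operators, each nilpotent, have a common nonzero kernel vector. -/
lemma exists_common_kernel {V : Type*} [AddCommGroup V] (T : ι → Module.End ℤ V)
    (hT : ∀ i j, Commute (T i) (T j)) (p : ℕ) (hp : ∀ i, T i ^ p = 0) (v : V) (hv : v ≠ 0)
    (s : Finset ι) : ∃ w : V, w ≠ 0 ∧ ∀ i ∈ s, T i w = 0 := by
  classical
  induction s using Finset.induction_on with
  | empty => exact ⟨v, hv, by simp⟩
  | insert j s hj ih =>
    obtain ⟨w, hw, hws⟩ := ih
    have hex : ∃ n, (T j ^ n) w = 0 := ⟨p, by rw [hp]; rfl⟩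
    obtain ⟨n, hn⟩ : ∃ n, Nat.find hex = n := ⟨_, rfl⟩
    have hn0 : n ≠ 0 := by
      rintro rfl
      have := Nat.find_spec hex
      rw [hn, pow_zero] at this
      exact hw this
    obtain ⟨m, rfl⟩ := Nat.exists_eq_succ_of_ne_zero hn0
    refine ⟨(T j ^ m) w, Nat.find_min hex (by omega), fun i hi => ?_⟩
    rcases Finset.mem_insert.mp hi with rfl | hi
    · have := Nat.find_spec hex
      rw [hn, Nat.succ_eq_add_one, pow_succ', Module.End.mul_apply] at this
      exact this
    · have hc : Commute (T i) (T j ^ m) := (hT i j).pow_right m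
      rw [← Module.End.mul_apply, hc.eq, Module.End.mul_apply, hws i hi, map_zero]

/-- A closed form fixed by the Cartier operator is `dlog f`. -/
theorem exists_dlog [Fintype ι] (F : Frame Q ι) (p : ℕ) [hp : Fact p.Prime] [CharP Q p] (a : ι → Q)
    (h : ∀ i j, F.D i (a j) = F.D j (a i)) (hC : ∀ i, (F.D i)^[p - 1] (a i) = - (a i) ^ p) :
    ∃ f : Q, f ≠ 0 ∧ ∀ i, F.D i f = a i * f := by
  let T : ι → Module.End ℤ Q := fun i => op (F.D i) + mu (- a i)
  have hT : ∀ i j, Commute (T i) (T j) := by
    intro i j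
    show T i * T j = T j * T i
    ext x
    simp only [T, Module.End.mul_apply, LinearMap.add_apply, op_apply, mu_apply,
      Derivation.map_add, Derivation.leibniz, Derivation.map_neg, smul_eq_mul]
    rw [comm F i j x, h i j]
    ring
  have hTp : ∀ i, T i ^ p = 0 := by
    intro i
    show (op (F.D i) + mu (- a i)) ^ p = 0
    rw [op_add_mu_pow p (CharP.cast_eq_zero Q p)]
    have h1 : op (F.D i) ^ p = 0 := by
      ext x
      rw [op_pow_apply, iter_p]
      rfl
    have h2 : (F.D i)^[p - 1] (- a i) + (- a i) ^ p = 0 := by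
      rw [iterate_neg, hC]
      have h3 : (-1 : Q) ^ p = -1 := by
        have hpp : p = (p - 1) + 1 := by have := hp.out.pos; omega
        conv_lhs => rw [hpp]
        rw [pow_succ, neg_one_pow_pred p (CharP.cast_eq_zero Q p), one_mul]
      rw [neg_pow (a i) p, h3]
      ring
    rw [h1, h2, zero_add]
    ext x
    simp
  obtain ⟨f, hf, hf'⟩ := exists_common_kernel T hT p hTp (1 : Q) one_ne_zero Finset.univ
  refine ⟨f, hf, fun i => ?_⟩
  have := hf' i (Finset.mem_univ i)
  simp only [T, LinearMap.add_apply, op_apply, mu_apply] at this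
  linear_combination this

end Frame

end Groth.Agent.Lefpen.H332.Cartier
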